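import Groth.Agent.Lib.Branch14At27.Tensor
import Groth.Agent.Lib.GeomRed18.Perfect
import Groth.Agent.Lib.GeomIrr18.Alg
import Groth.Agent.Lib.Branch14.Corollaries

/-!
# Products of normal branches over an algebraically closed field
-/

universe u

open scoped TensorProduct

set_option linter.style.haveILetI false

namespace Groth.Agent.GrpUnibr14

variable {K : Type u} [Field K] [IsAlgClosed K]

/-- Over an algebraically closed field a tensor product of domains is a domain. -/
theorem isDomain_tensor (A B : Type u) [CommRing A] [IsDomain A] [Algebra K A] [CommRing B] [IsDomain B]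
    [Algebra K B] : IsDomain (A ⊗[K] B) := by
  let FA := FractionRing A
  let FB := FractionRing B
  haveI : IsReduced (FA ⊗[K] FB) := GeomRed.isReduced_tensor_of_perfectField FA FB
  have hirr : IrreducibleSpace (PrimeSpectrum (FA ⊗[K] FB)) := GeomIrr.irreducibleSpace_tensor_field FA FB
  have hp := PrimeSpectrum.irreducibleSpace_iff_isPrime_nilradical.1 hirr
  rw [nilradical_eq_zero] at hp
  haveI : IsDomain (FA ⊗[K] FB) := IsDomain.of_bot_isPrime _
  let φ := Algebra.TensorProduct.map (IsScalarTower.toAlgHom K A FA) (IsScalarTower.toAlgHom K B FB)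
  have hinj : Function.Injective φ := by
    have h1 : Function.Injective (TensorProduct.map (IsScalarTower.toAlgHom K A FA).toLinearMap
        (IsScalarTower.toAlgHom K B FB).toLinearMap) := by
      rw [← LinearMap.rTensor_comp_lTensor]
      exact (Module.Flat.rTensor_preserves_injective_linearMap _ (IsFractionRing.injective A FA)).comp
        (Module.Flat.lTensor_preserves_injective_linearMap _ (IsFractionRing.injective B FB))
    exact h1
  exact Function.Injective.isDomain φ.toRingHom hinj

/-- A minimal prime below a rational point is seen by a normal local domain with a compatible point. -/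
theorem exists_branch {C : Type u} [CommRing C] [Algebra K C] (c : C →ₐ[K] K) (p : Ideal C) [p.IsPrime]
    (hp : p ≤ RingHom.ker c.toRingHom) :
    ∃ (D : Type u) (_ : CommRing D) (_ : IsDomain D) (_ : IsLocalRing D) (_ : Algebra K D)
      (π : C →ₐ[K] D) (e : D →ₐ[K] K), CAlg2.IsGeomUnibranch D ∧ RingHom.ker π.toRingHom = p ∧
        RingHom.ker e.toRingHom = IsLocalRing.maximalIdeal D ∧ e.comp π = c := by
  let A := C ⧸ p
  let F := FractionRing A
  let cA : A →ₐ[K] K := Ideal.Quotient.liftₐ p c fun a ha => hp ha
  let N := integralClosure A F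
  haveI : IsIntegrallyClosed N := integralClosure.isIntegrallyClosedOfFiniteExtension F
  have hint : Algebra.IsIntegral A N := IsIntegralClosure.isIntegral_algebra A F
  have hinjN : Function.Injective (algebraMap A N) := fun a b h =>
    IsFractionRing.injective A F (congrArg Subtype.val h)
  haveI hkp : (RingHom.ker cA.toRingHom).IsPrime := RingHom.ker_isPrime _
  obtain ⟨n, -, hn, hnc⟩ := Ideal.exists_ideal_over_prime_of_isIntegral (RingHom.ker cA.toRingHom) (⊥ : Ideal N)
    (by rw [show (⊥ : Ideal N).comap (algebraMap A N) = ⊥ from (RingHom.injective_iff_ker_eq_bot _).1 hinjN]; exact bot_le)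
  haveI := hn
  let κ := n.ResidueField
  let γ : K →+* κ := (algebraMap N κ).comp ((algebraMap A N).comp (algebraMap K A))
  let : Algebra K N := ((algebraMap A N).comp (algebraMap K A)).toAlgebra
  haveI : IsScalarTower K A N := IsScalarTower.of_algebraMap_eq fun _ => rfl
  -- every element of `N` is constant modulo `n`
  have key : ∀ y : N, ∃ t : K, y - algebraMap K N t ∈ n := fun y => by
    obtain ⟨P, hPm, hP⟩ := hint.isIntegral y
    have hPK : Polynomial.eval₂ γ (algebraMap N κ y) (P.map cA.toRingHom) = 0 := by
      rw [Polynomial.eval₂_map]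
      have e : γ.comp cA.toRingHom = (algebraMap N κ).comp (algebraMap A N) := RingHom.ext fun a => by
        have h0 : a - algebraMap K A (cA a) ∈ RingHom.ker cA.toRingHom := by
          show cA (a - algebraMap K A (cA a)) = 0
          rw [map_sub, AlgHom.commutes]; simp
        rw [← hnc, Ideal.mem_comap, ← Ideal.algebraMap_residueField_eq_zero (I := n), map_sub, map_sub, sub_eq_zero] at h0
        exact h0.symm
      rw [e, ← Polynomial.hom_eval₂, hP, map_zero]
    let : Algebra K κ := γ.toAlgebra
    obtain ⟨t, ht⟩ := minpoly.mem_range_of_degree_eq_one K (algebraMap N κ y)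
      (IsAlgClosed.degree_eq_one_of_irreducible K (minpoly.irreducible ⟨_, hPm.map _, hPK⟩))
    refine ⟨t, ?_⟩
    rw [← Ideal.algebraMap_residueField_eq_zero, map_sub, ← ht]
    exact sub_self _
  let ψ : K →ₐ[K] N ⧸ n := Algebra.ofId _ _
  have hψ : Function.Bijective ψ := ⟨(ψ : K →+* N ⧸ n).injective, fun z => by
    obtain ⟨y, rfl⟩ := Ideal.Quotient.mk_surjective z
    obtain ⟨t, ht⟩ := key y
    exact ⟨t, (Ideal.Quotient.eq.2 ht).symm⟩⟩
  let eN : N →ₐ[K] K := (AlgEquiv.ofBijective ψ hψ).symm.toAlgHom.comp (Ideal.Quotient.mkₐ K n)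
  have heN : ∀ y, eN y = 0 ↔ y ∈ n := fun y => by
    show (AlgEquiv.ofBijective ψ hψ).symm (Ideal.Quotient.mk n y) = 0 ↔ _
    rw [map_eq_zero_iff _ (AlgEquiv.injective _), Ideal.Quotient.eq_zero_iff_mem]
  let D := Localization.AtPrime n
  haveI : IsDomain D := IsLocalization.isDomain_localization n.primeCompl_le_nonZeroDivisors
  haveI : IsIntegrallyClosed D := isIntegrallyClosed_of_isLocalization (R := N) (S := D) n.primeCompl n.primeCompl_le_nonZeroDivisors
  let eD : D →ₐ[K] K := IsLocalization.liftAlgHom (M := n.primeCompl) (S := D) (f := eN)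
    fun s => isUnit_iff_ne_zero.2 fun h => s.2 ((heN _).1 h)
  let π : C →ₐ[K] D := ((IsScalarTower.toAlgHom K N D).comp (IsScalarTower.toAlgHom K A N)).comp (Ideal.Quotient.mkₐ K p)
  have heD : ∀ y : N, eD (algebraMap N D y) = eN y := fun y => IsLocalization.lift_eq _ _
  refine ⟨D, inferInstance, inferInstance, inferInstance, inferInstance, π, eD,
    Branch14.isGeomUnibranch_of_isIntegrallyClosed _, ?_, ?_, ?_⟩
  · refine Ideal.ext fun a => ?_
    show algebraMap N D (algebraMap A N (Ideal.Quotient.mk p a)) = 0 ↔ _
    rw [map_eq_zero_iff _ (IsLocalization.injective D n.primeCompl_le_nonZeroDivisors),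
      map_eq_zero_iff _ hinjN, Ideal.Quotient.eq_zero_iff_mem]
  · exact IsLocalRing.eq_maximalIdeal (RingHom.ker_isMaximal_of_surjective eD.toRingHom
      fun t => ⟨algebraMap K D t, eD.commutes t⟩)
  · refine AlgHom.ext fun a => ?_
    show eD (algebraMap N D (algebraMap A N (Ideal.Quotient.mk p a))) = c a
    rw [heD]
    have h0 : Ideal.Quotient.mk p a - algebraMap K A (c a) ∈ RingHom.ker cA.toRingHom := by
      show cA (Ideal.Quotient.mkₐ K p a - algebraMap K A (c a)) = 0
      rw [map_sub, AlgHom.commutes]
      show c a - algebraMap K K (c a) = 0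
      simp
    rw [← hnc, Ideal.mem_comap, map_sub] at h0
    have h1 := (heN _).2 h0
    rw [map_sub, sub_eq_zero] at h1
    rw [h1]
    exact eN.commutes (c a)

end Groth.Agent.GrpUnibr14
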