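import Groth.Agent.Lib.GrpUnibr14.Alg
import Groth.Agent.Lib.AlgSpDecent.Basic
import Groth.Prelude.Def_AlgSpGpd
import Mathlib.RingTheory.Flat.Stability

/-!
# Groupoid spaces over a field have geometrically unibranch arrows
-/

universe u

set_option backward.isDefEq.respectTransparency.types false
set_option backward.isDefEq.respectTransparency false
set_option linter.unusedVariables false
set_option linter.style.haveILetI false

open CategoryTheory CategoryTheory.Limits AlgebraicGeometry Opposite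
open scoped TensorProduct

namespace Groth.Agent.GrpUnibr14.Gpd

open AlgSp Groth.Agent.AlgSpace Groth.Agent.AlgSpDecent

noncomputable section

set_option maxHeartbeats 1000000

variable {S : Scheme.{u}}

/-- A ring as an object over `S` through a map to the base. -/
def ob {A : Type u} [CommRing A] (str : Spec (CommRingCat.of A) ⟶ S) : Over S := Over.mk str

/-- The map of objects over `S` given by a ring map. -/
def hom {A C : Type u} [CommRing A] [CommRing C] {sA : Spec (CommRingCat.of A) ⟶ S}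
    {sC : Spec (CommRingCat.of C) ⟶ S} (φ : A →+* C) (h : Spec.map (CommRingCat.ofHom φ) ≫ sA = sC) :
    ob sC ⟶ ob sA :=
  Over.homMk (Spec.map (CommRingCat.ofHom φ)) h

theorem hom_comp {A C E : Type u} [CommRing A] [CommRing C] [CommRing E]
    {sA : Spec (CommRingCat.of A) ⟶ S} {sC : Spec (CommRingCat.of C) ⟶ S} {sE : Spec (CommRingCat.of E) ⟶ S}
    (φ : A →+* C) (h : Spec.map (CommRingCat.ofHom φ) ≫ sA = sC)
    (ψ : C →+* E) (h' : Spec.map (CommRingCat.ofHom ψ) ≫ sC = sE) :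
    hom ψ h' ≫ hom φ h = hom (ψ.comp φ) (by rw [CommRingCat.ofHom_comp, Spec.map_comp, Category.assoc, h, h']) :=
  Over.OverMorphism.ext (by
    show Spec.map _ ≫ Spec.map _ = Spec.map _
    rw [← Spec.map_comp]; rfl)

theorem hom_congr {A C : Type u} [CommRing A] [CommRing C] {sA : Spec (CommRingCat.of A) ⟶ S}
    {sC : Spec (CommRingCat.of C) ⟶ S} {φ ψ : A →+* C} (e : φ = ψ)
    (h : Spec.map (CommRingCat.ofHom φ) ≫ sA = sC) (h' : Spec.map (CommRingCat.ofHom ψ) ≫ sA = sC) :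
    hom φ h = hom ψ h' := by subst e; rfl

theorem exists_hom {A C : Type u} [CommRing A] [CommRing C] {sA : Spec (CommRingCat.of A) ⟶ S}
    {sC : Spec (CommRingCat.of C) ⟶ S} (v : ob sC ⟶ ob sA) :
    ∃ (φ : A →+* C) (h : Spec.map (CommRingCat.ofHom φ) ≫ sA = sC), hom φ h = v := by
  let ψ : Spec (CommRingCat.of C) ⟶ Spec (CommRingCat.of A) := v.left
  refine ⟨(Spec.preimage ψ).hom, ?_, Over.OverMorphism.ext ?_⟩
  · show Spec.map (Spec.preimage ψ) ≫ sA = sC
    rw [Spec.map_preimage]; exact Over.w v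
  · show Spec.map (Spec.preimage ψ) = _
    rw [Spec.map_preimage]

theorem hom_inj {A C : Type u} [CommRing A] [CommRing C] {sA : Spec (CommRingCat.of A) ⟶ S}
    {sC : Spec (CommRingCat.of C) ⟶ S} {φ ψ : A →+* C} {h : Spec.map (CommRingCat.ofHom φ) ≫ sA = sC}
    {h' : Spec.map (CommRingCat.ofHom ψ) ≫ sA = sC} (e : hom φ h = hom ψ h') : φ = ψ :=
  congrArg CommRingCat.Hom.hom (Spec.map_injective (congrArg Over.Hom.left e))

variable {B₀ : Sp S} (G : AlgSp.GroupoidSp B₀)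

/-- Composition of arrows. -/
def cmp {Z : Sp S} (α β : Z ⟶ G.R) (h : α ≫ G.s = β ≫ G.t) : Z ⟶ G.R := pullback.lift α β h ≫ G.c

theorem comp_cmp {Z Z' : Sp S} (v : Z' ⟶ Z) (α β : Z ⟶ G.R) (h : α ≫ G.s = β ≫ G.t) :
    v ≫ cmp G α β h = cmp G (v ≫ α) (v ≫ β) (by rw [Category.assoc, h, Category.assoc]) := by
  show v ≫ pullback.lift α β h ≫ G.c = pullback.lift _ _ _ ≫ G.c
  rw [← Category.assoc]
  congr 1
  apply pullback.hom_ext <;> simp

theorem cmp_congr {Z : Sp S} {α α' β β' : Z ⟶ G.R} (ea : α = α') (eb : β = β') (h : α ≫ G.s = β ≫ G.t)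
    (h' : α' ≫ G.s = β' ≫ G.t) : cmp G α β h = cmp G α' β' h' := by subst ea; subst eb; rfl

theorem cmp_inv_right {Z : Sp S} (α β : Z ⟶ G.R) (h : α ≫ G.s = β ≫ G.s)
    (h₁ : α ≫ G.s = (β ≫ G.i) ≫ G.t) (h₂ : cmp G α (β ≫ G.i) h₁ ≫ G.s = β ≫ G.t) :
    cmp G (cmp G α (β ≫ G.i) h₁) β h₂ = α := by
  show pullback.lift (pullback.lift α (β ≫ G.i) h₁ ≫ G.c) β _ ≫ G.c = α
  rw [G.assoc α (β ≫ G.i) β h₁ (by rw [Category.assoc, G.i_s])]
  refine (cmp_congr G rfl (G.i_comp β) _ (by rw [Category.assoc, Category.assoc, G.e_t, Category.comp_id, h])).trans ?_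
  refine Eq.trans ?_ (G.comp_e α)
  exact cmp_congr G rfl (by rw [← Category.assoc, ← h, Category.assoc]) _ _

theorem cmp_inv_left {Z : Sp S} (β γ : Z ⟶ G.R) (h : β ≫ G.t = γ ≫ G.t)
    (h₁ : β ≫ G.s = (β ≫ G.i) ≫ G.t) (h₂ : cmp G β (β ≫ G.i) h₁ ≫ G.s = γ ≫ G.t) :
    cmp G (cmp G β (β ≫ G.i) h₁) γ h₂ = γ := by
  refine Eq.trans ?_ (G.e_comp γ)
  refine cmp_congr G ?_ rfl _ _
  refine (G.comp_i β).trans ?_
  rw [← Category.assoc, h, Category.assoc]

variable {k : Type u} [Field k] (σ : Spec (CommRingCat.of k) ⟶ S) (eU : G.U ≅ (yon S).obj (Over.mk σ))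

/-- Minimal primes below a point of a chart are determined by the two fibres. -/
theorem eq_of_minimal {K : Type u} [Field K] [IsAlgClosed K] {B : Type u} [CommRing B]
    {sB : Spec (CommRingCat.of B) ⟶ S} (a : (yon S).obj (ob sB) ⟶ G.R) (ha : RepWith @Etale a)
    (ψs ψt : k →+* B) (hs : Spec.map (CommRingCat.ofHom ψs) ≫ σ = sB) (ht : Spec.map (CommRingCat.ofHom ψt) ≫ σ = sB)
    (has : a ≫ G.s ≫ eU.hom = (yon S).map (hom ψs hs : ob sB ⟶ ob σ))
    (hat : a ≫ G.t ≫ eU.hom = (yon S).map (hom ψt ht : ob sB ⟶ ob σ))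
    (c₀ : B →+* K) {C₁ C₂ : Type u} [CommRing C₁] [Algebra K C₁] [CommRing C₂] [Algebra K C₂]
    (j₁ : B →+* C₁) (j₂ : B →+* C₂)
    (hj₁ : j₁.comp ψs = (algebraMap K C₁).comp (c₀.comp ψs)) (hj₂ : j₂.comp ψt = (algebraMap K C₂).comp (c₀.comp ψt))
    (c₁ : C₁ →ₐ[K] K) (c₂ : C₂ →ₐ[K] K) (hc₁ : c₁.toRingHom.comp j₁ = c₀) (hc₂ : c₂.toRingHom.comp j₂ = c₀)
    {p₁ : Ideal C₁} {p₂ : Ideal C₂} [p₁.IsPrime] [p₂.IsPrime]
    (hp₁ : p₁.comap j₁ ∈ minimalPrimes B) (hp₂ : p₂.comap j₂ ∈ minimalPrimes B)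
    (h₁ : p₁ ≤ RingHom.ker c₁.toRingHom) (h₂ : p₂ ≤ RingHom.ker c₂.toRingHom) : p₁.comap j₁ = p₂.comap j₂ := by
  obtain ⟨D₁, _, _, _, _, π₁, e₁, hu₁, hk₁, hm₁, he₁⟩ := exists_branch c₁ p₁ h₁
  obtain ⟨D₂, _, _, _, _, π₂, e₂, hu₂, hk₂, hm₂, he₂⟩ := exists_branch c₂ p₂ h₂
  let T : Type u := D₁ ⊗[K] D₂
  haveI : IsDomain T := isDomain_tensor D₁ D₂
  let sK : Spec (CommRingCat.of K) ⟶ S := Spec.map (CommRingCat.ofHom c₀) ≫ sB
  let sOf : ∀ (D : Type u) [CommRing D] [Algebra K D], Spec (CommRingCat.of D) ⟶ S :=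
    fun D _ _ => Spec.map (CommRingCat.ofHom (algebraMap K D)) ≫ sK
  let f₁ : B →+* D₁ := π₁.toRingHom.comp j₁
  let f₂ : B →+* D₂ := π₂.toRingHom.comp j₂
  have hfs : f₁.comp ψs = (algebraMap K D₁).comp (c₀.comp ψs) := by
    show (π₁.toRingHom.comp j₁).comp ψs = _
    rw [RingHom.comp_assoc, hj₁, ← RingHom.comp_assoc]
    exact congrArg (RingHom.comp · (c₀.comp ψs)) π₁.comp_algebraMap
  have hft : f₂.comp ψt = (algebraMap K D₂).comp (c₀.comp ψt) := by
    show (π₂.toRingHom.comp j₂).comp ψt = _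
    rw [RingHom.comp_assoc, hj₂, ← RingHom.comp_assoc]
    exact congrArg (RingHom.comp · (c₀.comp ψt)) π₂.comp_algebraMap
  have hf₁s : Spec.map (CommRingCat.ofHom f₁) ≫ sB = sOf D₁ := by
    show _ = Spec.map _ ≫ Spec.map _ ≫ sB
    rw [← hs]
    simp only [← Spec.map_comp_assoc, ← CommRingCat.ofHom_comp]
    rw [hfs]
    try rfl
  have hf₂s : Spec.map (CommRingCat.ofHom f₂) ≫ sB = sOf D₂ := by
    show _ = Spec.map _ ≫ Spec.map _ ≫ sB
    rw [← ht]
    simp only [← Spec.map_comp_assoc, ← CommRingCat.ofHom_comp]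
    rw [hft]
    try rfl
  have halg : ∀ {D E : Type u} [CommRing D] [CommRing E] [Algebra K D] [Algebra K E] (v : D →ₐ[K] E),
      Spec.map (CommRingCat.ofHom v.toRingHom) ≫ sOf D = sOf E := fun {D E} _ _ _ _ v => by
    show Spec.map _ ≫ Spec.map _ ≫ sK = Spec.map _ ≫ sK
    rw [← Spec.map_comp_assoc, ← CommRingCat.ofHom_comp]
    exact congrArg (fun f => Spec.map (CommRingCat.ofHom f) ≫ sK) v.comp_algebraMap
  have hKs : sOf K = sK := by
    show Spec.map (CommRingCat.ofHom (RingHom.id K)) ≫ sK = sK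
    simp
  let inl : D₁ →ₐ[K] T := Algebra.TensorProduct.includeLeft
  let inr : D₂ →ₐ[K] T := Algebra.TensorProduct.includeRight
  let kT : K →ₐ[K] T := Algebra.ofId K T
  let g₀ : (yon S).obj (ob (sOf K)) ⟶ G.R := (yon S).map (hom c₀ hKs.symm) ≫ a
  let A₁ : (yon S).obj (ob (sOf T)) ⟶ G.R := (yon S).map (hom inl.toRingHom (halg inl) ≫ hom f₁ hf₁s) ≫ a
  let A₂ : (yon S).obj (ob (sOf T)) ⟶ G.R := (yon S).map (hom inr.toRingHom (halg inr) ≫ hom f₂ hf₂s) ≫ a
  let A₀ : (yon S).obj (ob (sOf T)) ⟶ G.R := (yon S).map (hom kT.toRingHom (halg kT)) ≫ g₀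
  have hA₁ : A₁ ≫ G.s = A₀ ≫ G.s := by
    rw [← cancel_mono eU.hom]
    simp only [A₁, A₀, g₀, Category.assoc, has, ← Functor.map_comp, hom_comp]
    congr 1
    refine hom_congr ?_ _ _
    rw [RingHom.comp_assoc, hfs, ← RingHom.comp_assoc]
    exact congrArg (RingHom.comp · (c₀.comp ψs)) inl.comp_algebraMap
  have hA₂ : A₀ ≫ G.t = A₂ ≫ G.t := by
    rw [← cancel_mono eU.hom]
    simp only [A₂, A₀, g₀, Category.assoc, hat, ← Functor.map_comp, hom_comp]
    congr 1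
    refine hom_congr ?_ _ _
    show kT.toRingHom.comp (c₀.comp ψt) = inr.toRingHom.comp (f₂.comp ψt)
    rw [hft, ← RingHom.comp_assoc]
    exact congrArg (RingHom.comp · (c₀.comp ψt)) inr.comp_algebraMap.symm
  have hAi : A₁ ≫ G.s = (A₀ ≫ G.i) ≫ G.t := hA₁.trans ((Category.assoc A₀ G.i G.t).trans (congrArg (A₀ ≫ ·) G.i_t)).symm
  have hIA : cmp G A₁ (A₀ ≫ G.i) hAi ≫ G.s = A₂ ≫ G.t := by
    show (pullback.lift _ _ _ ≫ G.c) ≫ G.s = _
    rw [G.comp_s, Category.assoc, G.i_s, hA₂]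
  let m := cmp G (cmp G A₁ (A₀ ≫ G.i) hAi) A₂ hIA
  let s₁ : T →ₐ[K] D₁ := Algebra.TensorProduct.lift (AlgHom.id K D₁) ((Algebra.ofId K D₁).comp e₂) (fun _ _ => Commute.all _ _)
  let s₂ : T →ₐ[K] D₂ := Algebra.TensorProduct.lift ((Algebra.ofId K D₂).comp e₁) (AlgHom.id K D₂) (fun _ _ => Commute.all _ _)
  have s₁l : s₁.comp inl = AlgHom.id K D₁ := Algebra.TensorProduct.lift_comp_includeLeft _ _ (fun _ _ => Commute.all _ _)
  have s₁r : s₁.comp inr = (Algebra.ofId K D₁).comp e₂ :=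
    AlgHom.ext fun d => (Algebra.TensorProduct.lift_tmul _ _ (fun _ _ => Commute.all _ _) 1 d).trans (by simp)
  have s₂r : s₂.comp inr = AlgHom.id K D₂ :=
    AlgHom.ext fun d => (Algebra.TensorProduct.lift_tmul _ _ (fun _ _ => Commute.all _ _) 1 d).trans (by simp)
  have s₂l : s₂.comp inl = (Algebra.ofId K D₂).comp e₁ := Algebra.TensorProduct.lift_comp_includeLeft _ _ (fun _ _ => Commute.all _ _)
  have sk : ∀ {D : Type u} [CommRing D] [Algebra K D] (v : T →ₐ[K] D), v.comp kT = Algebra.ofId K D :=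
    fun v => Algebra.ext_id _ _ _
  have he₁f : e₁.toRingHom.comp f₁ = c₀ := by
    rw [← hc₁, ← he₁]; rfl
  have he₂f : e₂.toRingHom.comp f₂ = c₀ := by
    rw [← hc₂, ← he₂]; rfl
  have hsm₁ : (yon S).map (hom s₁.toRingHom (halg s₁)) ≫ m = (yon S).map (hom f₁ hf₁s) ≫ a := by
    have x₁ : (yon S).map (hom s₁.toRingHom (halg s₁)) ≫ A₁ = (yon S).map (hom f₁ hf₁s) ≫ a := by
      simp only [A₁, ← Functor.map_comp_assoc, hom_comp]
      congr 2
      refine hom_congr ?_ _ _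
      exact RingHom.ext fun b => AlgHom.congr_fun s₁l (f₁ b)
    have x₂ : (yon S).map (hom s₁.toRingHom (halg s₁)) ≫ A₂ = (yon S).map (hom s₁.toRingHom (halg s₁)) ≫ A₀ := by
      simp only [A₂, A₀, g₀, ← Functor.map_comp_assoc, hom_comp]
      congr 2
      refine hom_congr ?_ _ _
      refine RingHom.ext fun b => ?_
      show s₁ (inr (f₂ b)) = s₁ (kT (c₀ b))
      rw [show s₁ (inr (f₂ b)) = _ from AlgHom.congr_fun s₁r (f₂ b), show s₁ (kT (c₀ b)) = _ from AlgHom.congr_fun (sk s₁) (c₀ b)]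
      show algebraMap K D₁ (e₂.toRingHom.comp f₂ b) = _
      rw [he₂f]; rfl
    let v := (yon S).map (hom s₁.toRingHom (halg s₁))
    change v ≫ cmp G (cmp G A₁ (A₀ ≫ G.i) hAi) A₂ hIA = _
    have q₁ : (v ≫ A₁) ≫ G.s = ((v ≫ A₀) ≫ G.i) ≫ G.t := by
      simp only [Category.assoc, G.i_t]; rw [hA₁]
    have q₂ : cmp G (v ≫ A₁) ((v ≫ A₀) ≫ G.i) q₁ ≫ G.s = (v ≫ A₀) ≫ G.t := by
      refine (G.comp_s _ _ _).trans ?_
      rw [Category.assoc, G.i_s]
    rw [comp_cmp]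
    refine (cmp_congr G (β' := v ≫ A₀) ((comp_cmp G v A₁ (A₀ ≫ G.i) hAi).trans
      (cmp_congr G rfl (Category.assoc _ _ _).symm _ q₁)) x₂ _ q₂).trans ?_
    refine Eq.trans ?_ x₁
    exact cmp_inv_right G (v ≫ A₁) (v ≫ A₀) ((Category.assoc v A₁ G.s).trans ((congrArg (v ≫ ·) hA₁).trans (Category.assoc v A₀ G.s).symm)) _ _
  have hsm₂ : (yon S).map (hom s₂.toRingHom (halg s₂)) ≫ m = (yon S).map (hom f₂ hf₂s) ≫ a := by
    have x₁ : (yon S).map (hom s₂.toRingHom (halg s₂)) ≫ A₂ = (yon S).map (hom f₂ hf₂s) ≫ a := by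
      simp only [A₂, ← Functor.map_comp_assoc, hom_comp]
      congr 2
      refine hom_congr ?_ _ _
      exact RingHom.ext fun b => AlgHom.congr_fun s₂r (f₂ b)
    have x₂ : (yon S).map (hom s₂.toRingHom (halg s₂)) ≫ A₁ = (yon S).map (hom s₂.toRingHom (halg s₂)) ≫ A₀ := by
      simp only [A₁, A₀, g₀, ← Functor.map_comp_assoc, hom_comp]
      congr 2
      refine hom_congr ?_ _ _
      refine RingHom.ext fun b => ?_
      show s₂ (inl (f₁ b)) = s₂ (kT (c₀ b))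
      rw [show s₂ (inl (f₁ b)) = _ from AlgHom.congr_fun s₂l (f₁ b), show s₂ (kT (c₀ b)) = _ from AlgHom.congr_fun (sk s₂) (c₀ b)]
      show algebraMap K D₂ (e₁.toRingHom.comp f₁ b) = _
      rw [he₁f]; rfl
    let v := (yon S).map (hom s₂.toRingHom (halg s₂))
    change v ≫ cmp G (cmp G A₁ (A₀ ≫ G.i) hAi) A₂ hIA = _
    have q₁ : (v ≫ A₀) ≫ G.s = ((v ≫ A₀) ≫ G.i) ≫ G.t := by
      simp only [Category.assoc, G.i_t]
    have q₂ : cmp G (v ≫ A₀) ((v ≫ A₀) ≫ G.i) q₁ ≫ G.s = (v ≫ A₂) ≫ G.t := by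
      refine (G.comp_s _ _ _).trans ?_
      rw [Category.assoc, G.i_s]
      exact (Category.assoc v A₀ G.t).trans ((congrArg (v ≫ ·) hA₂).trans (Category.assoc v A₂ G.t).symm)
    rw [comp_cmp]
    refine (cmp_congr G (β' := v ≫ A₂) ((comp_cmp G v A₁ (A₀ ≫ G.i) hAi).trans
      (cmp_congr G x₂ (Category.assoc _ _ _).symm _ q₁)) rfl _ q₂).trans ?_
    refine Eq.trans ?_ x₁
    exact cmp_inv_left G (v ≫ A₀) (v ≫ A₂) ((Category.assoc v A₀ G.t).trans ((congrArg (v ≫ ·) hA₂).trans (Category.assoc v A₂ G.t).symm)) _ _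
  obtain ⟨W, w, fstW, sq⟩ := ha.1 m
  obtain ⟨fW, rfl⟩ := (yon S).map_surjective fstW
  haveI : Etale w.left := ha.2 m _ _ sq
  obtain ⟨σ₁, hσ₁⟩ := (yon S).map_surjective (sq.lift ((yon S).map (hom f₁ hf₁s))
    ((yon S).map (hom s₁.toRingHom (halg s₁))) hsm₁.symm)
  obtain ⟨σ₂, hσ₂⟩ := (yon S).map_surjective (sq.lift ((yon S).map (hom f₂ hf₂s))
    ((yon S).map (hom s₂.toRingHom (halg s₂))) hsm₂.symm)
  have hσ₁f : σ₁ ≫ fW = hom f₁ hf₁s := (yon S).map_injective (by rw [Functor.map_comp, hσ₁, sq.lift_fst])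
  have hσ₁s : σ₁ ≫ w = hom s₁.toRingHom (halg s₁) := (yon S).map_injective (by rw [Functor.map_comp, hσ₁, sq.lift_snd])
  have hσ₂f : σ₂ ≫ fW = hom f₂ hf₂s := (yon S).map_injective (by rw [Functor.map_comp, hσ₂, sq.lift_fst])
  have hσ₂s : σ₂ ≫ w = hom s₂.toRingHom (halg s₂) := (yon S).map_injective (by rw [Functor.map_comp, hσ₂, sq.lift_snd])
  have hee : e₁.comp s₁ = e₂.comp s₂ := by
    apply Algebra.TensorProduct.ext <;> ext d <;> simp [s₁, s₂]
  have hpt : hom e₁.toRingHom (halg e₁) ≫ σ₁ = hom e₂.toRingHom (halg e₂) ≫ σ₂ := by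
    apply (yon S).map_injective
    apply sq.hom_ext
    · simp only [← Functor.map_comp, Category.assoc, hσ₁f, hσ₂f, hom_comp]
      congr 1
      exact hom_congr (he₁f.trans he₂f.symm) _ _
    · simp only [← Functor.map_comp, Category.assoc, hσ₁s, hσ₂s, hom_comp]
      congr 1
      exact hom_congr (congrArg AlgHom.toRingHom hee) _ _
  let w₀ : ↥W.left := (hom e₁.toRingHom (halg e₁) ≫ σ₁).left (IsLocalRing.closedPoint K)
  obtain ⟨O, hO, hwO, -⟩ := exists_isAffineOpen_mem_and_subset (X := W.left) (x := w₀) (U := ⊤) trivial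
  haveI : IsAffine O.toScheme := hO
  let R : Type u := Γ(O.toScheme, ⊤)
  let sR : Spec (CommRingCat.of R) ⟶ S := (O.toScheme.isoSpec.inv ≫ O.ι) ≫ W.hom
  let o : ob sR ⟶ W := Over.homMk (O.toScheme.isoSpec.inv ≫ O.ι) rfl
  haveI : IsOpenImmersion o.left := inferInstanceAs (IsOpenImmersion (O.toScheme.isoSpec.inv ≫ O.ι))
  have hrange : Set.range o.left = (O : Set ↥W.left) := by
    show Set.range (O.toScheme.isoSpec.inv ≫ O.ι) = _
    rw [Scheme.Hom.comp_base, TopCat.coe_comp, Set.range_comp, Set.range_eq_univ.2 O.toScheme.isoSpec.inv.surjective,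
      Set.image_univ, Scheme.Opens.range_ι]
  have fac : ∀ (D : Type u) [CommRing D] [IsLocalRing D] [Algebra K D] (e : D →ₐ[K] K) (v : ob (sOf D) ⟶ W),
      RingHom.ker e.toRingHom = IsLocalRing.maximalIdeal D →
      (hom e.toRingHom (halg e) ≫ v).left (IsLocalRing.closedPoint K) = w₀ →
      ∃ (r : R →+* D) (h : Spec.map (CommRingCat.ofHom r) ≫ sR = sOf D), hom r h ≫ o = v := by
    intro D _ _ _ e v he hv
    have hsub : Set.range v.left ⊆ Set.range o.left := by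
      rintro _ ⟨x, rfl⟩
      rw [hrange]
      have hx : (x : PrimeSpectrum D) ⤳ (hom e.toRingHom (halg e)).left (IsLocalRing.closedPoint K) := by
        refine (PrimeSpectrum.le_iff_specializes _ _).1 ?_
        show (x : PrimeSpectrum D).asIdeal ≤ Ideal.comap e.toRingHom (IsLocalRing.maximalIdeal K)
        rw [IsLocalRing.maximalIdeal_eq_bot, ← RingHom.ker_eq_comap_bot, he]
        exact IsLocalRing.le_maximalIdeal (x : PrimeSpectrum D).isPrime.ne_top
      refine (hx.map v.left.continuous).mem_open O.2 ?_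
      show (hom e.toRingHom (halg e) ≫ v).left (IsLocalRing.closedPoint K) ∈ O
      rw [hv]; exact hwO
    obtain ⟨r, h, hr⟩ := exists_hom (Over.homMk (IsOpenImmersion.lift o.left v.left hsub) (by
      show _ ≫ sR = _
      show _ ≫ o.left ≫ W.hom = _
      rw [IsOpenImmersion.lift_fac_assoc]
      exact Over.w v) : ob (sOf D) ⟶ ob sR)
    exact ⟨r, h, by rw [hr]; exact Over.OverMorphism.ext (IsOpenImmersion.lift_fac _ _ _)⟩
  obtain ⟨r₁, hr₁s, hr₁⟩ := fac D₁ e₁ σ₁ hm₁ rfl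
  obtain ⟨r₂, hr₂s, hr₂⟩ := fac D₂ e₂ σ₂ hm₂ (by rw [← hpt])
  obtain ⟨β, hβs, hβ⟩ := exists_hom (o ≫ fW)
  obtain ⟨τ, hτs, hτ⟩ := exists_hom (o ≫ w)
  have hrb₁ : r₁.comp β = f₁ := hom_inj (((hom_comp β hβs r₁ hr₁s).symm.trans (by
    rw [hβ, ← Category.assoc, hr₁, hσ₁f])) : _ = hom f₁ hf₁s)
  have hrb₂ : r₂.comp β = f₂ := hom_inj (((hom_comp β hβs r₂ hr₂s).symm.trans (by
    rw [hβ, ← Category.assoc, hr₂, hσ₂f])) : _ = hom f₂ hf₂s)
  have hrt₁ : r₁.comp τ = s₁.toRingHom := hom_inj (((hom_comp τ hτs r₁ hr₁s).symm.trans (by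
    rw [hτ, ← Category.assoc, hr₁, hσ₁s])) : _ = hom s₁.toRingHom (halg s₁))
  have hrt₂ : r₂.comp τ = s₂.toRingHom := hom_inj (((hom_comp τ hτs r₂ hr₂s).symm.trans (by
    rw [hτ, ← Category.assoc, hr₂, hσ₂s])) : _ = hom s₂.toRingHom (halg s₂))
  have hεeq : e₁.toRingHom.comp r₁ = e₂.toRingHom.comp r₂ := by
    refine congrArg CommRingCat.Hom.hom (Spec.map_injective (a₁ := CommRingCat.ofHom r₁ ≫ CommRingCat.ofHom e₁.toRingHom)
      (a₂ := CommRingCat.ofHom r₂ ≫ CommRingCat.ofHom e₂.toRingHom) ?_)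
    rw [← cancel_mono o.left]
    have := congrArg Over.Hom.left hpt
    rw [← hr₁, ← hr₂] at this
    rw [Spec.map_comp, Spec.map_comp, Category.assoc, Category.assoc]
    exact this
  let ε : R →+* K := e₁.toRingHom.comp r₁
  let Q : PrimeSpectrum R := ⟨RingHom.ker ε, RingHom.ker_isPrime _⟩
  let g : Spec (CommRingCat.of R) ⟶ Spec (CommRingCat.of T) := Spec.map (CommRingCat.ofHom τ)
  haveI : Etale g := by
    have e : g = o.left ≫ w.left := congrArg Over.Hom.left hτ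
    rw [e]; infer_instance
  let q : PrimeSpectrum T := g Q
  haveI : Q.asIdeal.IsPrime := Q.isPrime
  haveI : q.asIdeal.IsPrime := q.isPrime
  have hq : q.asIdeal = RingHom.ker (e₁.comp s₁).toRingHom := by
    show Ideal.comap τ (RingHom.ker ε) = _
    rw [RingHom.comap_ker, RingHom.comp_assoc, hrt₁]
    rfl
  let : Algebra T ((Spec (CommRingCat.of T)).presheaf.stalk q) := StructureSheaf.stalkAlgebra T q
  haveI : IsLocalization.AtPrime ((Spec (CommRingCat.of T)).presheaf.stalk q) q.asIdeal :=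
    StructureSheaf.IsLocalization.to_stalk T q
  have hTd : IsDomain ((Spec (CommRingCat.of T)).presheaf.stalk q) :=
    IsLocalization.isDomain_of_le_nonZeroDivisors _ q.asIdeal.primeCompl_le_nonZeroDivisors
  have hTu : CAlg2.IsGeomUnibranch ((Spec (CommRingCat.of T)).presheaf.stalk q) := by
    refine Branch14At27.isGeomUnibranch_of_ringEquiv
      (IsLocalization.algEquiv q.asIdeal.primeCompl (Localization.AtPrime q.asIdeal)
        ((Spec (CommRingCat.of T)).presheaf.stalk q)).toRingEquiv ?_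
    refine Branch14At27.isGeomUnibranch_tensor_atPrime (k := K) hu₁ hu₂ q.asIdeal ?_ ?_
    · rw [hq, ← hm₁]
      refine Ideal.ext fun d => ?_
      show e₁ (s₁ (d ⊗ₜ[K] 1)) = 0 ↔ e₁ d = 0
      rw [show s₁ (d ⊗ₜ[K] 1) = d from AlgHom.congr_fun s₁l d]
    · rw [hq, hee, ← hm₂]
      refine Ideal.ext fun d => ?_
      show e₂ (s₂ (1 ⊗ₜ[K] d)) = 0 ↔ e₂ d = 0
      rw [show s₂ (1 ⊗ₜ[K] d) = d from AlgHom.congr_fun s₂r d]
  have hRd := (Branch14.isDomain_and_isGeomUnibranch_of_etale g Q hTd hTu).1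
  let : Algebra R ((Spec (CommRingCat.of R)).presheaf.stalk Q) := StructureSheaf.stalkAlgebra R Q
  haveI : IsLocalization.AtPrime ((Spec (CommRingCat.of R)).presheaf.stalk Q) Q.asIdeal :=
    StructureSheaf.IsLocalization.to_stalk R Q
  let St := (Spec (CommRingCat.of R)).presheaf.stalk Q
  let z : Ideal R := RingHom.ker (algebraMap R St)
  haveI : z.IsPrime := RingHom.ker_isPrime _
  have hz : ∀ P : Ideal R, P.IsPrime → P ≤ Q.asIdeal → z ≤ P := fun P hP hPQ x hx => by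
    obtain ⟨⟨t, ht⟩, h⟩ := (IsLocalization.map_eq_zero_iff Q.asIdeal.primeCompl St x).1 hx
    exact (hP.mem_or_mem (show t * x ∈ P by rw [h]; exact zero_mem _)).resolve_left fun h' => ht (hPQ h')
  have hle₁ : z.comap β ≤ p₁.comap j₁ := fun x hx => by
    have h1 : β x ∈ RingHom.ker r₁ := hz _ (RingHom.ker_isPrime _) (fun y hy => by
      show e₁ (r₁ y) = 0
      rw [show r₁ y = 0 from hy, map_zero]) hx
    rw [← hk₁]
    exact (RingHom.congr_fun hrb₁ x).symm.trans h1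
  have hle₂ : z.comap β ≤ p₂.comap j₂ := fun x hx => by
    have h1 : β x ∈ RingHom.ker r₂ := hz _ (RingHom.ker_isPrime _) (fun y hy => by
      show ε y = 0
      rw [show ε = e₂.toRingHom.comp r₂ from hεeq]
      show e₂ (r₂ y) = 0
      rw [show r₂ y = 0 from hy, map_zero]) hx
    rw [← hk₂]
    exact (RingHom.congr_fun hrb₂ x).symm.trans h1
  exact (le_antisymm (hp₁.2 ⟨Ideal.IsPrime.comap _, bot_le⟩ hle₁) hle₁).trans
    (le_antisymm (hp₂.2 ⟨Ideal.IsPrime.comap _, bot_le⟩ hle₂) hle₂).symm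

/-- A prime below a rational point of a base change to a field, over a given prime. -/
theorem exists_prime_below {K : Type u} [Field K] {B : Type u} [CommRing B] (ψ : k →+* B) (c₀ : B →+* K)
    (p : Ideal B) [p.IsPrime] (hp : p ≤ RingHom.ker c₀) :
    ∃ (C : Type u) (_ : CommRing C) (_ : Algebra K C) (j : B →+* C) (c : C →ₐ[K] K) (q : Ideal C) (_ : q.IsPrime),
      j.comp ψ = (algebraMap K C).comp (c₀.comp ψ) ∧ c.toRingHom.comp j = c₀ ∧
        q ≤ RingHom.ker c.toRingHom ∧ q.comap j = p := by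
  let : Algebra k B := ψ.toAlgebra
  let : Algebra k K := (c₀.comp ψ).toAlgebra
  let c₀' : B →ₐ[k] K := ⟨c₀, fun _ => rfl⟩
  let c : K ⊗[k] B →ₐ[K] K := Algebra.TensorProduct.lift (AlgHom.id K K) c₀' (fun _ _ => Commute.all _ _)
  let j : B →+* K ⊗[k] B := (Algebra.TensorProduct.includeRight : B →ₐ[k] K ⊗[k] B).toRingHom
  have hj : ∀ b, c (j b) = c₀ b := fun b => by
    show c ((1 : K) ⊗ₜ[k] b) = c₀ b
    rw [Algebra.TensorProduct.lift_tmul, map_one, one_mul]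
    rfl
  haveI : (RingHom.ker c.toRingHom).IsPrime := RingHom.ker_isPrime _
  haveI : (RingHom.ker c₀).IsPrime := RingHom.ker_isPrime _
  let : Algebra B (K ⊗[k] B) := Algebra.TensorProduct.rightAlgebra
  haveI : Module.Flat B (K ⊗[k] B) :=
    Module.Flat.of_linearEquiv (Algebra.TensorProduct.commRight k B K).symm.toLinearEquiv
  haveI : (RingHom.ker c.toRingHom).LiesOver (RingHom.ker c₀) := ⟨Ideal.ext fun b => by
    show c₀ b = 0 ↔ c (j b) = 0
    rw [hj]⟩
  obtain ⟨q, hq, hqp, hqo⟩ := Ideal.exists_ideal_le_liesOver_of_le (RingHom.ker c.toRingHom) hp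
  refine ⟨K ⊗[k] B, inferInstance, inferInstance, j, c, q, hqp, ?_, RingHom.ext hj, hq, hqo.over.symm⟩
  refine RingHom.ext fun t => ?_
  show (1 : K) ⊗ₜ[k] algebraMap k B t = (algebraMap k K t) ⊗ₜ[k] (1 : B)
  exact (Algebra.TensorProduct.tmul_one_eq_one_tmul t).symm

/-- The local rings of affine charts of the arrows have a unique minimal prime. -/
theorem hasUniqueMinimalPrime_chart {B : Type u} [CommRing B]
    {sB : Spec (CommRingCat.of B) ⟶ S} (a : (yon S).obj (ob sB) ⟶ G.R) (ha : RepWith @Etale a)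
    (eU : G.U ≅ (yon S).obj (Over.mk σ)) (P : Ideal B) [P.IsPrime] :
    CAlgX.HasUniqueMinimalPrime (Localization.AtPrime P) := by
  obtain ⟨vs, hvs⟩ := (yon S).map_surjective (a ≫ G.s ≫ eU.hom)
  obtain ⟨ψs, hs, rfl⟩ := exists_hom (sA := σ) (sC := sB) vs
  obtain ⟨vt, hvt⟩ := (yon S).map_surjective (a ≫ G.t ≫ eU.hom)
  obtain ⟨ψt, ht, rfl⟩ := exists_hom (sA := σ) (sC := sB) vt
  let K := AlgebraicClosure P.ResidueField
  let c₀ : B →+* K := (algebraMap P.ResidueField K).comp (algebraMap B P.ResidueField)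
  have hker : RingHom.ker c₀ = P := Ideal.ext fun b => by
    show algebraMap P.ResidueField K (algebraMap B P.ResidueField b) = 0 ↔ _
    rw [map_eq_zero, Ideal.algebraMap_residueField_eq_zero]
  obtain ⟨p₀, hp₀, -⟩ := Ideal.exists_minimalPrimes_le (I := (⊥ : Ideal (Localization.AtPrime P)))
    (J := IsLocalRing.maximalIdeal _) bot_le
  refine ⟨p₀, hp₀, fun p hp => ?_⟩
  have key : ∀ {p p' : Ideal (Localization.AtPrime P)}, p ∈ minimalPrimes (Localization.AtPrime P) →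
      p' ∈ minimalPrimes (Localization.AtPrime P) → p.comap (algebraMap B _) = p'.comap (algebraMap B _) := by
    intro p p' hp hp'
    haveI := hp.1.1
    haveI := hp'.1.1
    have le : ∀ (r : Ideal (Localization.AtPrime P)), r.IsPrime → r.comap (algebraMap B _) ≤ RingHom.ker c₀ := fun r hr => by
      rw [hker]
      refine (Ideal.comap_mono (IsLocalRing.le_maximalIdeal hr.ne_top)).trans ?_
      exact (Localization.AtPrime.comap_maximalIdeal).le
    have hmin : ∀ (r : Ideal (Localization.AtPrime P)), r ∈ minimalPrimes (Localization.AtPrime P) →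
        r.comap (algebraMap B _) ∈ minimalPrimes B := fun r hr => by
      haveI := hr.1.1
      refine ⟨⟨Ideal.IsPrime.comap _, bot_le⟩, fun q hq hqr => ?_⟩
      haveI := hq.1
      have hdisj : Disjoint (P.primeCompl : Set B) (q : Set B) :=
        Set.disjoint_left.2 fun b hb hbq => hb (by
          have := le r inferInstance (hqr hbq)
          rwa [hker] at this)
      haveI : (q.map (algebraMap B (Localization.AtPrime P))).IsPrime :=
        IsLocalization.isPrime_of_isPrime_disjoint P.primeCompl _ _ inferInstance hdisj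
      have h2 := hr.2 ⟨inferInstance, bot_le⟩ (Ideal.map_le_iff_le_comap.2 hqr)
      refine (Ideal.comap_mono h2).trans (le_of_eq ?_)
      exact IsLocalization.comap_map_of_isPrime_disjoint P.primeCompl _ inferInstance hdisj
    obtain ⟨C₁, _, _, j₁, c₁, q₁, _, hj₁, hc₁, hq₁, hqc₁⟩ := exists_prime_below ψs c₀ _ (le p inferInstance)
    obtain ⟨C₂, _, _, j₂, c₂, q₂, _, hj₂, hc₂, hq₂, hqc₂⟩ := exists_prime_below ψt c₀ _ (le p' inferInstance)
    rw [← hqc₁, ← hqc₂]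
    exact eq_of_minimal G σ eU a ha ψs ψt hs ht hvs.symm hvt.symm c₀ j₁ j₂ hj₁ hj₂ c₁ c₂ hc₁ hc₂
      (hqc₁ ▸ hmin p hp) (hqc₂ ▸ hmin p' hp') hq₁ hq₂
  have e := key hp hp₀
  rw [← IsLocalization.map_comap P.primeCompl (Localization.AtPrime P) p,
    ← IsLocalization.map_comap P.primeCompl (Localization.AtPrime P) p₀]
  exact congrArg _ e

end

end Groth.Agent.GrpUnibr14.Gpd
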