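import Groth.Agent.Lib.GrpUnibr14.Alg
import Groth.Agent.Lib.GrpScheme14.Fields
import Groth.Agent.Lib.GrpScheme14.MaxPt

/-!
# Group spaces over a field are geometrically unibranch
-/

universe u

set_option backward.isDefEq.respectTransparency.types false
set_option backward.isDefEq.respectTransparency false
set_option linter.unusedVariables false

open CategoryTheory CategoryTheory.Limits AlgebraicGeometry Opposite
open MonoidalCategory MonObj
open scoped TensorProduct

set_option linter.style.haveILetI false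

namespace Groth.Agent.GrpUnibr14

open AlgSp Groth.Agent.AlgSpace Groth.Agent.AlgSpDecent Groth.Agent.FieldSpread14 Groth.Agent.GrpScheme14

noncomputable section

set_option maxHeartbeats 1000000

variable {k : Type u} [Field k] (G : Over ((yon (Spec (CommRingCat.of k))).obj (Over.mk (𝟙 _)))) [GrpObj G]

/-- Minimal primes through a rational point of a base changed chart agree. -/
theorem eq_of_minimal {K : Type u} [Field K] [IsAlgClosed K] [Algebra k K] {B : Type u} [CommRing B]
    [Algebra k B] (a : (yon _).obj (spec k B) ⟶ G.left) (ha : RepWith @Etale a)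
    (c : K ⊗[k] B →ₐ[K] K) {p₁ p₂ : Ideal (K ⊗[k] B)}
    (hp₁ : p₁ ∈ minimalPrimes (K ⊗[k] B)) (hp₂ : p₂ ∈ minimalPrimes (K ⊗[k] B))
    (h₁ : p₁ ≤ RingHom.ker c.toRingHom) (h₂ : p₂ ≤ RingHom.ker c.toRingHom) : p₁ = p₂ := by
  haveI := hp₁.1.1
  haveI := hp₂.1.1
  obtain ⟨D₁, _, _, _, _, π₁, e₁, hu₁, hk₁, hm₁, hc₁⟩ := exists_branch c p₁ h₁
  obtain ⟨D₂, _, _, _, _, π₂, e₂, hu₂, hk₂, hm₂, hc₂⟩ := exists_branch c p₂ h₂
  let : Algebra k D₁ := ((algebraMap K D₁).comp (algebraMap k K)).toAlgebra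
  haveI : IsScalarTower k K D₁ := IsScalarTower.of_algebraMap_eq fun _ => rfl
  let : Algebra k D₂ := ((algebraMap K D₂).comp (algebraMap k K)).toAlgebra
  haveI : IsScalarTower k K D₂ := IsScalarTower.of_algebraMap_eq fun _ => rfl
  let T : Type u := D₁ ⊗[K] D₂
  haveI : IsDomain T := isDomain_tensor D₁ D₂
  let inl : D₁ →ₐ[k] T := (Algebra.TensorProduct.includeLeft : D₁ →ₐ[K] T).restrictScalars k
  let inr : D₂ →ₐ[k] T := (Algebra.TensorProduct.includeRight : D₂ →ₐ[K] T).restrictScalars k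
  let jB : B →ₐ[k] K ⊗[k] B := Algebra.TensorProduct.includeRight
  let f₁ : B →ₐ[k] D₁ := (π₁.restrictScalars k).comp jB
  let f₂ : B →ₐ[k] D₂ := (π₂.restrictScalars k).comp jB
  let c₀ : B →ₐ[k] K := (c.restrictScalars k).comp jB
  have hf₁ : (e₁.restrictScalars k).comp f₁ = c₀ := AlgHom.ext fun b => AlgHom.congr_fun hc₁ (jB b)
  have hf₂ : (e₂.restrictScalars k).comp f₂ = c₀ := AlgHom.ext fun b => AlgHom.congr_fun hc₂ (jB b)
  have hterm := isTerminalBase (S := Spec (CommRingCat.of k))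
  let toG : ∀ {Z : Sp (Spec (CommRingCat.of k))} (v : Z ⟶ G.left), Over.mk (hterm.from Z) ⟶ G :=
    fun v => Over.homMk v (hterm.hom_ext _ _)
  have hmul : ∀ {Z : Sp (Spec (CommRingCat.of k))} (v v' : Z ⟶ G.left), toG (mul G v v') = toG v * toG v' :=
    fun v v' => Over.OverMorphism.ext rfl
  have inj : ∀ {Z : Sp (Spec (CommRingCat.of k))} (v v' : Z ⟶ G.left), toG v = toG v' → v = v' :=
    fun v v' h => congrArg Over.Hom.left h
  let g₀ := (yon _).map (specHom c₀) ≫ a
  let g' : (yon _).obj (spec k K) ⟶ G.left := (toG g₀)⁻¹.left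
  have hg' : toG g' = (toG g₀)⁻¹ := Over.OverMorphism.ext rfl
  have pre : ∀ {D : Type u} [CommRing D] [Algebra k D] (φ : K →ₐ[k] D) (v : (yon _).obj (spec k K) ⟶ G.left),
      toG ((yon _).map (specHom φ) ≫ v) = (Over.homMk ((yon _).map (specHom φ)) (hterm.hom_ext _ _) :
        Over.mk (hterm.from ((yon _).obj (spec k D))) ⟶ Over.mk (hterm.from ((yon _).obj (spec k K)))) ≫ toG v :=
    fun φ v => Over.OverMorphism.ext rfl
  let kT : K →ₐ[k] T := IsScalarTower.toAlgHom k K T
  let A₁ := (yon _).map (specHom inl) ≫ (yon _).map (specHom f₁) ≫ a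
  let A₂ := (yon _).map (specHom inr) ≫ (yon _).map (specHom f₂) ≫ a
  let m := mul G (mul G A₁ ((yon _).map (specHom kT) ≫ g')) A₂
  let s₁ : T →ₐ[K] D₁ := Algebra.TensorProduct.lift (AlgHom.id K D₁) ((Algebra.ofId K D₁).comp e₂) (fun _ _ => Commute.all _ _)
  let s₂ : T →ₐ[K] D₂ := Algebra.TensorProduct.lift ((Algebra.ofId K D₂).comp e₁) (AlgHom.id K D₂) (fun _ _ => Commute.all _ _)
  have s₁l : (s₁.restrictScalars k).comp inl = AlgHom.id k D₁ := AlgHom.ext fun d =>
    (Algebra.TensorProduct.lift_tmul _ _ (fun _ _ => Commute.all _ _) d 1).trans (by simp)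
  have s₁r : (s₁.restrictScalars k).comp inr = (IsScalarTower.toAlgHom k K D₁).comp (e₂.restrictScalars k) :=
    AlgHom.ext fun d => (Algebra.TensorProduct.lift_tmul _ _ (fun _ _ => Commute.all _ _) 1 d).trans (by simp [Algebra.ofId])
  have s₂r : (s₂.restrictScalars k).comp inr = AlgHom.id k D₂ := AlgHom.ext fun d =>
    (Algebra.TensorProduct.lift_tmul _ _ (fun _ _ => Commute.all _ _) 1 d).trans (by simp)
  have s₂l : (s₂.restrictScalars k).comp inl = (IsScalarTower.toAlgHom k K D₂).comp (e₁.restrictScalars k) :=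
    AlgHom.ext fun d => (Algebra.TensorProduct.lift_tmul _ _ (fun _ _ => Commute.all _ _) d 1).trans (by simp [Algebra.ofId])
  have s₁k : (s₁.restrictScalars k).comp kT = IsScalarTower.toAlgHom k K D₁ := AlgHom.ext fun t => s₁.commutes t
  have s₂k : (s₂.restrictScalars k).comp kT = IsScalarTower.toAlgHom k K D₂ := AlgHom.ext fun t => s₂.commutes t
  have pull : ∀ {B' C' E' : Type u} [CommRing B'] [CommRing C'] [CommRing E'] [Algebra k B'] [Algebra k C']
      [Algebra k E'] (φ : B' →ₐ[k] C') (ψ : C' →ₐ[k] E') {Z : Sp (Spec (CommRingCat.of k))}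
      (v : (yon _).obj (spec k B') ⟶ Z),
      (yon _).map (specHom ψ) ≫ (yon _).map (specHom φ) ≫ v = (yon _).map (specHom (ψ.comp φ)) ≫ v :=
    fun φ ψ Z v => by rw [PurTrans14.specHom_comp, Functor.map_comp, Category.assoc]
  have hsid : ∀ (D : Type u) [CommRing D] [Algebra k D], (yon _).map (specHom (AlgHom.id k D)) = 𝟙 _ :=
    fun D _ _ => by
      rw [show specHom (AlgHom.id k D) = 𝟙 _ from Over.OverMorphism.ext (by
        show Spec.map _ = 𝟙 _
        exact Spec.map_id _), CategoryTheory.Functor.map_id]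
  have hm₁' : (yon _).map (specHom (s₁.restrictScalars k)) ≫ m = (yon _).map (specHom f₁) ≫ a := by
    simp only [m, A₁, A₂, comp_mul', pull]
    have e1' : (s₁.restrictScalars k).comp (inl.comp f₁) = f₁ := by
      rw [← AlgHom.comp_assoc, s₁l, AlgHom.id_comp]
    have e2' : (s₁.restrictScalars k).comp (inr.comp f₂) = (IsScalarTower.toAlgHom k K D₁).comp c₀ := by
      rw [← AlgHom.comp_assoc, s₁r, AlgHom.comp_assoc, hf₂]
    rw [e1', e2', s₁k, ← pull c₀]
    apply inj
    rw [hmul, hmul, pre, pre, _root_.mul_assoc, ← MonObj.comp_mul, hg', inv_mul_cancel, MonObj.comp_one,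
      _root_.mul_one]
  have hm₂' : (yon _).map (specHom (s₂.restrictScalars k)) ≫ m = (yon _).map (specHom f₂) ≫ a := by
    simp only [m, A₁, A₂, comp_mul', pull]
    have e1' : (s₂.restrictScalars k).comp (inl.comp f₁) = (IsScalarTower.toAlgHom k K D₂).comp c₀ := by
      rw [← AlgHom.comp_assoc, s₂l, AlgHom.comp_assoc, hf₁]
    have e2' : (s₂.restrictScalars k).comp (inr.comp f₂) = f₂ := by
      rw [← AlgHom.comp_assoc, s₂r, AlgHom.id_comp]
    rw [e1', e2', s₂k, ← pull c₀]
    apply inj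
    rw [hmul, hmul, pre, pre, ← MonObj.comp_mul, hg', mul_inv_cancel, MonObj.comp_one,
      _root_.one_mul]
  -- the pullback chart
  obtain ⟨W, w, fstW, sq⟩ := ha.1 m
  obtain ⟨fW, rfl⟩ := (yon _).map_surjective fstW
  haveI : Etale w.left := ha.2 m _ _ sq
  obtain ⟨σ₁, hσ₁⟩ := (yon _).map_surjective (sq.lift ((yon _).map (specHom f₁))
    ((yon _).map (specHom (s₁.restrictScalars k))) hm₁'.symm)
  obtain ⟨σ₂, hσ₂⟩ := (yon _).map_surjective (sq.lift ((yon _).map (specHom f₂))
    ((yon _).map (specHom (s₂.restrictScalars k))) hm₂'.symm)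
  have hσ₁f : σ₁ ≫ fW = specHom f₁ := (yon _).map_injective (by rw [Functor.map_comp, hσ₁, sq.lift_fst])
  have hσ₁s : σ₁ ≫ w = specHom (s₁.restrictScalars k) := (yon _).map_injective (by rw [Functor.map_comp, hσ₁, sq.lift_snd])
  have hσ₂f : σ₂ ≫ fW = specHom f₂ := (yon _).map_injective (by rw [Functor.map_comp, hσ₂, sq.lift_fst])
  have hσ₂s : σ₂ ≫ w = specHom (s₂.restrictScalars k) := (yon _).map_injective (by rw [Functor.map_comp, hσ₂, sq.lift_snd])
  have hee : (e₁.restrictScalars k).comp (s₁.restrictScalars k) = (e₂.restrictScalars k).comp (s₂.restrictScalars k) := by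
    refine AlgHom.coe_ringHom_injective (show ((e₁.comp s₁ : T →ₐ[K] K) : T →+* K) = (e₂.comp s₂ : T →ₐ[K] K) from ?_)
    congr 1
    apply Algebra.TensorProduct.ext <;> ext d <;> simp [s₁, s₂, Algebra.ofId]
  have hpt : specHom (e₁.restrictScalars k) ≫ σ₁ = specHom (e₂.restrictScalars k) ≫ σ₂ := by
    apply (yon _).map_injective
    apply sq.hom_ext
    · simp only [← Functor.map_comp, Category.assoc, hσ₁f, hσ₂f, ← PurTrans14.specHom_comp, hf₁, hf₂]
    · simp only [← Functor.map_comp, Category.assoc, hσ₁s, hσ₂s, ← PurTrans14.specHom_comp, hee]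
  -- an affine neighbourhood of the common point
  let w₀ : ↥W.left := (specHom (e₁.restrictScalars k) ≫ σ₁).left (IsLocalRing.closedPoint K)
  obtain ⟨O, hO, hwO, -⟩ := exists_isAffineOpen_mem_and_subset (X := W.left) (x := w₀) (U := ⊤) trivial
  haveI : IsAffine O.toScheme := hO
  let R : Type u := Γ(O.toScheme, ⊤)
  let : Algebra k R := (Spec.preimage (O.toScheme.isoSpec.inv ≫ O.ι ≫ W.hom)).hom.toAlgebra
  let o : spec k R ⟶ W := Over.homMk (O.toScheme.isoSpec.inv ≫ O.ι) (by
    show (O.toScheme.isoSpec.inv ≫ O.ι) ≫ W.hom = Spec.map _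
    rw [Category.assoc]
    exact (Spec.map_preimage _).symm)
  haveI : IsOpenImmersion o.left := inferInstanceAs (IsOpenImmersion (O.toScheme.isoSpec.inv ≫ O.ι))
  have hrange : Set.range o.left = (O : Set ↥W.left) := by
    show Set.range (O.toScheme.isoSpec.inv ≫ O.ι) = _
    rw [Scheme.Hom.comp_base, TopCat.coe_comp, Set.range_comp, Set.range_eq_univ.2 O.toScheme.isoSpec.inv.surjective,
      Set.image_univ, Scheme.Opens.range_ι]
  have fac : ∀ (D : Type u) [CommRing D] [IsLocalRing D] [Algebra k D] (e : D →ₐ[k] K) (σ : spec k D ⟶ W),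
      RingHom.ker e.toRingHom = IsLocalRing.maximalIdeal D →
      (specHom e ≫ σ).left (IsLocalRing.closedPoint K) = w₀ → ∃ r : R →ₐ[k] D, specHom r ≫ o = σ := by
    intro D _ _ _ e σ he hσ
    have hsub : Set.range σ.left ⊆ Set.range o.left := by
      rintro _ ⟨x, rfl⟩
      rw [hrange]
      have hx : (x : PrimeSpectrum D) ⤳ (specHom e).left (IsLocalRing.closedPoint K) := by
        refine (PrimeSpectrum.le_iff_specializes _ _).1 ?_
        show (x : PrimeSpectrum D).asIdeal ≤ _
        rw [specHom_closedPoint, he]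
        exact IsLocalRing.le_maximalIdeal (x : PrimeSpectrum D).isPrime.ne_top
      refine (hx.map σ.left.continuous).mem_open O.2 ?_
      show (specHom e ≫ σ).left (IsLocalRing.closedPoint K) ∈ O
      rw [hσ]; exact hwO
    obtain ⟨r, hr⟩ := exists_specHom (Over.homMk (IsOpenImmersion.lift o.left σ.left hsub) (by
      rw [← Over.w o, IsOpenImmersion.lift_fac_assoc, Over.w σ]) : spec k D ⟶ spec k R)
    exact ⟨r, by rw [hr]; exact Over.OverMorphism.ext (IsOpenImmersion.lift_fac _ _ _)⟩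
  obtain ⟨r₁, hr₁⟩ := fac D₁ (e₁.restrictScalars k) σ₁ hm₁ rfl
  obtain ⟨r₂, hr₂⟩ := fac D₂ (e₂.restrictScalars k) σ₂ hm₂ (by rw [← hpt])
  obtain ⟨β, hβ⟩ := exists_specHom (o ≫ fW)
  obtain ⟨τ, hτ⟩ := exists_specHom (o ≫ w)
  have i₁ : ∀ {B' C' : Type u} [CommRing B'] [CommRing C'] [Algebra k B'] [Algebra k C'] (φ ψ : B' →ₐ[k] C'),
      specHom φ = specHom ψ → φ = ψ := fun φ ψ h =>
    AlgHom.coe_ringHom_injective (congrArg CommRingCat.Hom.hom (Spec.map_injective (congrArg Over.Hom.left h)))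
  have hrb₁ : r₁.comp β = f₁ := i₁ _ _ (by rw [PurTrans14.specHom_comp, hβ, ← Category.assoc, hr₁, hσ₁f])
  have hrb₂ : r₂.comp β = f₂ := i₁ _ _ (by rw [PurTrans14.specHom_comp, hβ, ← Category.assoc, hr₂, hσ₂f])
  have hrt₁ : r₁.comp τ = s₁.restrictScalars k := i₁ _ _ (by rw [PurTrans14.specHom_comp, hτ, ← Category.assoc, hr₁, hσ₁s])
  have hrt₂ : r₂.comp τ = s₂.restrictScalars k := i₁ _ _ (by rw [PurTrans14.specHom_comp, hτ, ← Category.assoc, hr₂, hσ₂s])
  haveI : Mono o.left := inferInstance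
  have hεeq : (e₁.restrictScalars k).comp r₁ = (e₂.restrictScalars k).comp r₂ := i₁ _ _ (Over.OverMorphism.ext (by
    rw [← cancel_mono o.left]
    have := congrArg Over.Hom.left hpt
    rw [← hr₁, ← hr₂] at this
    simpa [PurTrans14.specHom_comp] using this))
  let ε : R →ₐ[k] K := (e₁.restrictScalars k).comp r₁
  let Q : PrimeSpectrum R := ⟨RingHom.ker ε.toRingHom, RingHom.ker_isPrime _⟩
  let g : Spec (CommRingCat.of R) ⟶ Spec (CommRingCat.of T) := (specHom τ).left
  haveI : Etale g := by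
    have e : g = o.left ≫ w.left := by
      show (specHom τ).left = _
      rw [hτ]; rfl
    rw [e]; infer_instance
  -- the local ring of the product is a geometrically unibranch domain
  let q : PrimeSpectrum T := g Q
  haveI : Q.asIdeal.IsPrime := Q.isPrime
  haveI : q.asIdeal.IsPrime := q.isPrime
  have hq : q.asIdeal = RingHom.ker ((e₁.restrictScalars k).comp (s₁.restrictScalars k)).toRingHom := by
    rw [← hrt₁]
    rfl
  let : Algebra T ((Spec (CommRingCat.of T)).presheaf.stalk q) := StructureSheaf.stalkAlgebra T q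
  haveI : IsLocalization.AtPrime ((Spec (CommRingCat.of T)).presheaf.stalk q) q.asIdeal :=
    StructureSheaf.IsLocalization.to_stalk T q
  have hTd : IsDomain ((Spec (CommRingCat.of T)).presheaf.stalk q) :=
    IsLocalization.isDomain_of_le_nonZeroDivisors _ q.asIdeal.primeCompl_le_nonZeroDivisors
  have hTu : CAlg2.IsGeomUnibranch ((Spec (CommRingCat.of T)).presheaf.stalk q) := by
    refine Branch14At27.isGeomUnibranch_of_ringEquiv
      (IsLocalization.algEquiv q.asIdeal.primeCompl (Localization.AtPrime q.asIdeal)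
        ((Spec (CommRingCat.of T)).presheaf.stalk q)).toRingEquiv ?_
    refine Branch14At27.isGeomUnibranch_tensor_atPrime (k := K) hu₁ hu₂ q.asIdeal ?_ ?_
    · rw [hq, ← hm₁]
      refine Ideal.ext fun d => ?_
      show e₁ (s₁ (d ⊗ₜ[K] 1)) = 0 ↔ e₁ d = 0
      rw [show s₁ (d ⊗ₜ[K] 1) = d from AlgHom.congr_fun s₁l d]
    · rw [hq, hee, ← hm₂]
      refine Ideal.ext fun d => ?_
      show e₂ (s₂ (1 ⊗ₜ[K] d)) = 0 ↔ e₂ d = 0
      rw [show s₂ (1 ⊗ₜ[K] d) = d from AlgHom.congr_fun s₂r d]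
  have hRd := (Branch14.isDomain_and_isGeomUnibranch_of_etale g Q hTd hTu).1
  let : Algebra R ((Spec (CommRingCat.of R)).presheaf.stalk Q) := StructureSheaf.stalkAlgebra R Q
  haveI : IsLocalization.AtPrime ((Spec (CommRingCat.of R)).presheaf.stalk Q) Q.asIdeal :=
    StructureSheaf.IsLocalization.to_stalk R Q
  let S := (Spec (CommRingCat.of R)).presheaf.stalk Q
  let z : Ideal R := RingHom.ker (algebraMap R S)
  haveI : z.IsPrime := RingHom.ker_isPrime _
  have hz : ∀ P : Ideal R, P.IsPrime → P ≤ Q.asIdeal → z ≤ P := fun P hP hPQ x hx => by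
    obtain ⟨⟨s, hs⟩, h⟩ := (IsLocalization.map_eq_zero_iff Q.asIdeal.primeCompl S x).1 hx
    exact (hP.mem_or_mem (show s * x ∈ P by rw [h]; exact zero_mem _)).resolve_left fun h' => hs (hPQ h')
  -- compare with the two branches
  let gam : K ⊗[k] B →ₐ[k] R := Algebra.TensorProduct.lift (τ.comp kT) β (fun _ _ => Commute.all _ _)
  have hγ : ∀ {D : Type u} [CommRing D] [Algebra K D] [Algebra k D] [IsScalarTower k K D] (r : R →ₐ[k] D)
      (π : K ⊗[k] B →ₐ[K] D) (s : T →ₐ[K] D),
      r.comp β = (π.restrictScalars k).comp jB → r.comp τ = s.restrictScalars k → ∀ x, r (gam x) = π x := by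
    intro D _ _ _ _ r π s hb ht x
    refine AlgHom.congr_fun (φ₁ := r.comp gam) (φ₂ := π.restrictScalars k) ?_ x
    apply Algebra.TensorProduct.ext
    · refine AlgHom.ext fun t => ?_
      show r (gam (t ⊗ₜ[k] 1)) = π (t ⊗ₜ[k] 1)
      rw [show (t ⊗ₜ[k] (1 : B)) = algebraMap K (K ⊗[k] B) t from rfl, π.commutes]
      show r (gam (t ⊗ₜ[k] 1)) = _
      rw [Algebra.TensorProduct.lift_tmul, map_one, _root_.mul_one]
      show (r.comp τ) (algebraMap K T t) = _
      rw [ht]
      exact s.commutes t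
    · refine AlgHom.ext fun b => ?_
      show r (gam (1 ⊗ₜ[k] b)) = π (jB b)
      rw [Algebra.TensorProduct.lift_tmul, map_one, _root_.one_mul]
      exact AlgHom.congr_fun hb b
  have hle₁ : z.comap gam.toRingHom ≤ p₁ := fun x hx => by
    have h1 : gam x ∈ RingHom.ker r₁.toRingHom := hz _ (RingHom.ker_isPrime _) (fun y hy => by
      show e₁ (r₁ y) = 0
      rw [show r₁ y = 0 from hy, map_zero]) hx
    rw [← hk₁]
    exact (hγ r₁ π₁ s₁ hrb₁ hrt₁ x).symm.trans h1
  have hle₂ : z.comap gam.toRingHom ≤ p₂ := fun x hx => by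
    have h1 : gam x ∈ RingHom.ker r₂.toRingHom := hz _ (RingHom.ker_isPrime _) (fun y hy => by
      show ε y = 0
      rw [show ε = (e₂.restrictScalars k).comp r₂ from hεeq]
      show e₂ (r₂ y) = 0
      rw [show r₂ y = 0 from hy, map_zero]) hx
    rw [← hk₂]
    exact (hγ r₂ π₂ s₂ hrb₂ hrt₂ x).symm.trans h1
  haveI : (z.comap gam.toRingHom).IsPrime := Ideal.IsPrime.comap _
  exact le_antisymm ((hp₁.2 ⟨inferInstance, bot_le⟩ hle₁).trans hle₂)
    ((hp₂.2 ⟨inferInstance, bot_le⟩ hle₂).trans hle₁)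

/-- Going down to a base change by a field extension. -/
theorem exists_minimal_below {K : Type u} [Field K] [Algebra k K] {B : Type u} [CommRing B] [Algebra k B]
    (P : Ideal B) [P.IsPrime] (M : Ideal (K ⊗[k] B)) [M.IsPrime]
    (hM : M.comap (Algebra.TensorProduct.includeRight : B →ₐ[k] K ⊗[k] B).toRingHom = P)
    (p : Ideal B) [p.IsPrime] (hp : p ≤ P) :
    ∃ q ∈ minimalPrimes (K ⊗[k] B), q ≤ M ∧
      q.comap (Algebra.TensorProduct.includeRight : B →ₐ[k] K ⊗[k] B).toRingHom ≤ p := by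
  let : Algebra B (K ⊗[k] B) := Algebra.TensorProduct.rightAlgebra
  haveI : Module.Flat B (K ⊗[k] B) :=
    Module.Flat.of_linearEquiv (Algebra.TensorProduct.commRight k B K).symm.toLinearEquiv
  haveI : M.LiesOver P := ⟨hM.symm⟩
  obtain ⟨L, hL, hLp, hLo⟩ := Ideal.exists_ideal_le_liesOver_of_le M hp
  haveI := hLp
  obtain ⟨q, hq, hqL⟩ := Ideal.exists_minimalPrimes_le (I := (⊥ : Ideal (K ⊗[k] B))) (J := L) bot_le
  exact ⟨q, hq, hqL.trans hL, (Ideal.comap_mono hqL).trans hLo.over.ge⟩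

/-- The local rings of affine charts have a unique minimal prime. -/
theorem hasUniqueMinimalPrime_chart {B : Type u} [CommRing B] [Algebra k B]
    (a : (yon _).obj (spec k B) ⟶ G.left) (ha : RepWith @Etale a) (P : Ideal B) [P.IsPrime] :
    CAlgX.HasUniqueMinimalPrime (Localization.AtPrime P) := by
  let K := AlgebraicClosure P.ResidueField
  let c₀ : B →ₐ[k] K := (IsScalarTower.toAlgHom k P.ResidueField K).comp (IsScalarTower.toAlgHom k B P.ResidueField)
  let c : K ⊗[k] B →ₐ[K] K := Algebra.TensorProduct.lift (AlgHom.id K K) c₀ (fun _ _ => Commute.all _ _)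
  let C := K ⊗[k] B
  let iB : B →+* C := (Algebra.TensorProduct.includeRight : B →ₐ[k] C).toRingHom
  haveI : (RingHom.ker c.toRingHom).IsPrime := RingHom.ker_isPrime _
  have hker : (RingHom.ker c.toRingHom).comap iB = P := Ideal.ext fun b => by
    show c ((1 : K) ⊗ₜ[k] b) = 0 ↔ _
    rw [Algebra.TensorProduct.lift_tmul, map_one, _root_.one_mul]
    show algebraMap P.ResidueField K (algebraMap B P.ResidueField b) = 0 ↔ _
    rw [map_eq_zero, Ideal.algebraMap_residueField_eq_zero]
  have lift : ∀ p : Ideal B, p.IsPrime → p ≤ P → ∃ q ∈ minimalPrimes C,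
      q ≤ RingHom.ker c.toRingHom ∧ q.comap iB ≤ p := fun p hp hpP => by
    haveI := hp
    exact exists_minimal_below P (RingHom.ker c.toRingHom) hker p hpP
  obtain ⟨p₀, hp₀, -⟩ := Ideal.exists_minimalPrimes_le (I := (⊥ : Ideal (Localization.AtPrime P)))
    (J := IsLocalRing.maximalIdeal _) bot_le
  refine ⟨p₀, hp₀, fun p hp => ?_⟩
  have key : ∀ {p p' : Ideal (Localization.AtPrime P)}, p ∈ minimalPrimes (Localization.AtPrime P) →
      p' ∈ minimalPrimes (Localization.AtPrime P) → p ≤ p' := by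
    intro p p' hp hp'
    haveI := hp.1.1
    haveI := hp'.1.1
    have le : ∀ (r : Ideal (Localization.AtPrime P)), r.IsPrime → r.comap (algebraMap B _) ≤ P := fun r hr => by
      refine (Ideal.comap_mono (IsLocalRing.le_maximalIdeal hr.ne_top)).trans ?_
      exact (Localization.AtPrime.comap_maximalIdeal).le
    obtain ⟨q, hq, hqc, hqp⟩ := lift _ (Ideal.IsPrime.comap _) (le p inferInstance)
    obtain ⟨q', hq', hqc', hqp'⟩ := lift _ (Ideal.IsPrime.comap _) (le p' inferInstance)
    haveI := hq.1.1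
    have heq := eq_of_minimal G a ha c hq hq' hqc hqc'
    subst heq
    -- pass back to the localization
    let m : Ideal (Localization.AtPrime P) := (q.comap iB).map (algebraMap B _)
    have hdisj : Disjoint (P.primeCompl : Set B) (q.comap iB : Set B) :=
      Set.disjoint_left.2 fun b hb hbq => hb (le p inferInstance (hqp hbq))
    haveI : (q.comap iB).IsPrime := Ideal.IsPrime.comap _
    haveI : m.IsPrime := IsLocalization.isPrime_of_isPrime_disjoint P.primeCompl _ _ inferInstance hdisj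
    have hmp : m ≤ p := Ideal.map_le_iff_le_comap.2 hqp
    exact (hp.2 ⟨inferInstance, bot_le⟩ hmp).trans (Ideal.map_le_iff_le_comap.2 hqp')
  exact le_antisymm (key hp hp₀) (key hp₀ hp)

end

end Groth.Agent.GrpUnibr14
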